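import Cfsg.Agent.Solvable.Frattini
import Cfsg.Agent.Solvable.Nilpotent
import Cfsg.Agent.Coprime.ActionHom

/-!
Frattini and Fitting subgroups: Frattini subgroups of normal subgroups, complements when
`Φ(G) = 1`, and automorphisms fixing the Fitting subgroup.
-/

open Pointwise
open scoped commutatorElement

namespace CfsgLib.FrattiniTheory

variable {G : Type*} [Group G] [Finite G]

omit [Finite G] in
/-- Conjugation by elements of a normal subgroup's normalizer on an intersection. -/
theorem inf_normal_of_abelian {A H : Subgroup G} [A.Normal] [IsMulCommutative A]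
    (h : A ⊔ H = ⊤) : (A ⊓ H).Normal := by
  rw [← Subgroup.normalizer_eq_top_iff, ← top_le_iff, ← h]
  refine sup_le (fun a ha => ?_) ((le_inf Subgroup.le_normalizer_of_normal Subgroup.le_normalizer).trans
    Subgroup.inf_normalizer_le_normalizer_inf)
  exact Subgroup.centralizer_le_normalizer _ (Subgroup.mem_centralizer_iff.mpr fun y hy =>
    setLike_mul_comm (s := A) hy.1 ha)

/-- The Frattini subgroup of a normal subgroup lies in the Frattini subgroup. -/
theorem map_frattini_le (H : Subgroup G) [H.Normal] :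
    (frattini H).map H.subtype ≤ frattini G := by
  intro x hx
  rw [Solvable.mem_frattini_iff]
  intro M hM
  by_contra hxM
  set F := (frattini H).map H.subtype with hF
  have hFn : F.Normal := inferInstance
  have htop : F ⊔ M = ⊤ := hM.2 _ (right_lt_sup.mpr fun h => hxM (h hx))
  have hK : (M.subgroupOf H) ⊔ frattini H = ⊤ := by
    rw [eq_top_iff]
    intro y _
    have hy : (y : G) ∈ ((F ⊔ M : Subgroup G) : Set G) := by rw [htop]; trivial
    rw [Subgroup.normal_mul] at hy
    obtain ⟨f, ⟨f', hf', rfl⟩, m, hm, e⟩ := hy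
    have hm' : f'⁻¹ * y ∈ M.subgroupOf H := by
      rw [Subgroup.mem_subgroupOf]
      have e' : (f' : G) * m = y := e
      simp only [Subgroup.coe_mul, Subgroup.coe_inv]
      rw [← e', inv_mul_cancel_left]
      exact hm
    have : y = f' * (f'⁻¹ * y) := by rw [mul_inv_cancel_left]
    rw [this]
    exact mul_mem (Subgroup.mem_sup_right hf') (Subgroup.mem_sup_left hm')
  have h1 := Subgroup.subgroupOf_eq_top.mp (Solvable.eq_top_of_sup_frattini hK)
  exact hxM (h1 (Subgroup.map_subtype_le _ hx))

omit [Finite G] in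
theorem exists_coatom_not_le {x : G} (hΦ : frattini G = ⊥) (hx : x ≠ 1) :
    ∃ M : Subgroup G, IsCoatom M ∧ x ∉ M := by
  by_contra h
  push Not at h
  have := (Solvable.mem_frattini_iff (x := x)).mpr h
  rw [hΦ, Subgroup.mem_bot] at this
  exact hx this

/-- If `Φ(G) = 1`, abelian normal subgroups are complemented. -/
theorem exists_isComplement' (hΦ : frattini G = ⊥) (A : Subgroup G) [A.Normal]
    [IsMulCommutative A] : ∃ H : Subgroup G, Subgroup.IsComplement' A H := by
  obtain ⟨H, hAH, hmin⟩ := Set.Finite.exists_minimal (s := {H : Subgroup G | A ⊔ H = ⊤})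
    (Set.toFinite _) ⟨⊤, sup_top_eq _⟩
  refine ⟨H, Subgroup.isComplement'_of_disjoint_and_mul_eq_univ ?_ (by
    rw [← Subgroup.normal_mul]; simp only [Set.mem_setOf_eq] at hAH; rw [hAH, Subgroup.coe_top])⟩
  rw [disjoint_iff]
  by_contra hne
  obtain ⟨x, hx, hx1⟩ := (Subgroup.bot_or_exists_ne_one _).resolve_left hne
  obtain ⟨M, hM, hxM⟩ := exists_coatom_not_le hΦ hx1
  have hn := inf_normal_of_abelian hAH
  have htop : (A ⊓ H) ⊔ M = ⊤ := hM.2 _ (right_lt_sup.mpr fun h => hxM (h hx))
  have hH' : A ⊔ (H ⊓ M) = ⊤ := by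
    rw [← top_le_iff, ← (hAH : A ⊔ H = ⊤)]
    refine sup_le le_sup_left fun y hy => ?_
    have hy' : y ∈ (((A ⊓ H) ⊔ M : Subgroup G) : Set G) := by rw [htop]; trivial
    rw [Subgroup.normal_mul] at hy'
    obtain ⟨a, ha, m, hm, rfl⟩ := hy'
    refine mul_mem (Subgroup.mem_sup_left ha.1) (Subgroup.mem_sup_right ⟨?_, hm⟩)
    simpa using H.mul_mem (H.inv_mem ha.2) hy
  exact hxM ((hmin hH' inf_le_left hx.2).2)

theorem commutator_le_frattini_of_nilpotent {K : Type*} [Group K] [Finite K]
    [Group.IsNilpotent K] : commutator K ≤ frattini K := by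
  intro x hx
  rw [Solvable.mem_frattini_iff]
  intro M hM
  have : M.Normal := Subgroup.NormalizerCondition.normal_of_coatom _
    Group.normalizerCondition_of_isNilpotent hM
  have h : ∀ a b : K ⧸ M, a * b = b * a := by
    have hcyc : IsCyclic (K ⧸ M) := by
      have hs : IsSimpleGroup (K ⧸ M) := by
        have : Nontrivial (K ⧸ M) := QuotientGroup.nontrivial_iff.mpr hM.1
        refine ⟨fun N hN => ?_⟩
        rcases eq_or_ne N ⊥ with h | h
        · exact Or.inl h
        · right
          have h1 : M < N.comap (QuotientGroup.mk' M) := by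
            refine lt_of_le_of_ne (by
              have := (QuotientGroup.mk' M).ker_le_comap N
              rwa [QuotientGroup.ker_mk'] at this) fun e => h ?_
            rw [← Subgroup.map_comap_eq_self_of_surjective (QuotientGroup.mk'_surjective M) N, ← e,
              QuotientGroup.map_mk'_self]
          rw [← Subgroup.map_comap_eq_self_of_surjective (QuotientGroup.mk'_surjective M) N,
            hM.2 _ h1, Subgroup.map_top_of_surjective _ (QuotientGroup.mk'_surjective M)]
      infer_instance
    exact fun a b => (IsCyclic.commGroup (α := K ⧸ M)).mul_comm a b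
  rw [← QuotientGroup.eq_one_iff]
  refine (?_ : commutator K ≤ (QuotientGroup.mk' M).ker) hx
  rw [commutator_def, Subgroup.commutator_le]
  intro a _ b _
  rw [MonoidHom.mem_ker, map_commutatorElement, commutatorElement_eq_one_iff_mul_comm]
  exact h _ _

omit [Finite G] in
theorem abelian_le_fitting {N : Subgroup G} [N.Normal] [IsMulCommutative N] :
    N ≤ Cfsg.fittingSubgroup G :=
  le_sSup ⟨inferInstance, by open scoped IsMulCommutative in infer_instance⟩

/-- If `Φ(G) = 1`, the Fitting subgroup is the abelian socle. -/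
theorem fittingSubgroup_eq_socle (hΦ : frattini G = ⊥) :
    Cfsg.fittingSubgroup G = sSup {N : Subgroup G | N.Normal ∧ N ≠ ⊥ ∧ IsMulCommutative N ∧
      ∀ K : Subgroup G, K.Normal → K ≤ N → K = ⊥ ∨ K = N} := by
  set F := Cfsg.fittingSubgroup G with hF
  set S := sSup {N : Subgroup G | N.Normal ∧ N ≠ ⊥ ∧ IsMulCommutative N ∧
      ∀ K : Subgroup G, K.Normal → K ≤ N → K = ⊥ ∨ K = N} with hS
  have hFn : F.Normal := Solvable.fittingSubgroup_normal
  have hFnil : Group.IsNilpotent F := Solvable.fittingSubgroup_isNilpotent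
  have hFab : ∀ x ∈ F, ∀ y ∈ F, x * y = y * x := by
    intro x hx y hy
    have h1 : ⁅x, y⁆ ∈ frattini G := map_frattini_le F (by
      have h2 : ⁅(⟨x, hx⟩ : F), (⟨y, hy⟩ : F)⁆ ∈ frattini F :=
        commutator_le_frattini_of_nilpotent (K := F) (by
          rw [commutator_def]
          exact Subgroup.commutator_mem_commutator trivial trivial)
      exact ⟨_, h2, rfl⟩)
    rw [hΦ, Subgroup.mem_bot, commutatorElement_eq_one_iff_mul_comm] at h1
    exact h1
  have hSF : S ≤ F := sSup_le fun N hN => by
    have := hN.1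
    have := hN.2.2.1
    exact abelian_le_fitting
  refine le_antisymm ?_ hSF
  have hSn : S.Normal := Subgroup.sSup_normal _ fun _ h => h.1
  have hSab : IsMulCommutative S := ⟨⟨fun x y => Subtype.ext (hFab x (hSF x.2) y (hSF y.2))⟩⟩
  obtain ⟨H, hH⟩ := exists_isComplement' hΦ S
  have hFab' : IsMulCommutative F := ⟨⟨fun x y => Subtype.ext (hFab x x.2 y y.2)⟩⟩
  have hFH : F ⊓ H = ⊥ := by
    have hn : (F ⊓ H).Normal := inf_normal_of_abelian
      (top_le_iff.mp (hH.sup_eq_top.ge.trans (sup_le_sup_right hSF H)))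
    by_contra hne
    obtain ⟨N, hN1, hN2, hNle, hNmin⟩ := Solvable.exists_minimal_normal_le hn hne
    have hNab : IsMulCommutative N :=
      ⟨⟨fun x y => Subtype.ext (hFab x (hNle x.2).1 y (hNle y.2).1)⟩⟩
    have hNS : N ≤ S := le_sSup ⟨hN1, hN2, hNab, hNmin⟩
    exact hN2 (le_bot_iff.mp ((le_inf hNS (hNle.trans inf_le_right)).trans
      (disjoint_iff.mp hH.disjoint).le))
  intro x hx
  have hx' : x ∈ ((S ⊔ H : Subgroup G) : Set G) := by rw [hH.sup_eq_top]; trivial
  rw [Subgroup.normal_mul] at hx'
  obtain ⟨s, hs, h, hh, rfl⟩ := hx'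
  have h1 : h ∈ F ⊓ H := ⟨by simpa using mul_mem (inv_mem (hSF hs)) hx, hh⟩
  rw [hFH, Subgroup.mem_bot] at h1
  simpa [h1] using hs

/-- The Fitting subgroup centralises minimal normal subgroups. -/
theorem fitting_le_centralizer {M : Subgroup G} [M.Normal]
    (hmin : ∀ K : Subgroup G, K.Normal → K ≤ M → K = ⊥ ∨ K = M) :
    Cfsg.fittingSubgroup G ≤ Subgroup.centralizer (M : Set G) := by
  set F := Cfsg.fittingSubgroup G with hF
  have hFn : F.Normal := Solvable.fittingSubgroup_normal
  rw [Subgroup.le_centralizer_iff]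
  rcases hmin (M ⊓ F) inferInstance inf_le_left with h | h
  · intro m hm f hf
    exact (Subgroup.commute_of_normal_of_disjoint M F inferInstance hFn (disjoint_iff.mpr h)
      m f hm hf).eq.symm
  · have hMF : M ≤ F := inf_eq_left.mp h
    rcases hmin (M ⊓ Subgroup.centralizer (F : Set G)) inferInstance inf_le_left with h' | h'
    · rcases eq_or_ne M ⊥ with rfl | hne
      · exact bot_le
      exfalso
      have : Group.IsNilpotent F := Solvable.fittingSubgroup_isNilpotent
      have h2 := Solvable.inf_center_ne_bot (G := F) (N := M.subgroupOf F) fun e => hne (by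
        rwa [Subgroup.subgroupOf_eq_bot, disjoint_iff, inf_eq_left.mpr hMF] at e)
      obtain ⟨x, hx, hx1⟩ := (Subgroup.bot_or_exists_ne_one _).resolve_left h2
      refine hx1 (Subtype.ext ?_)
      have h3 : (x : G) ∈ M ⊓ Subgroup.centralizer (F : Set G) :=
        ⟨hx.1, Subgroup.mem_centralizer_iff.mpr fun y hy =>
          congrArg Subtype.val (Subgroup.mem_center_iff.mp hx.2 ⟨y, hy⟩)⟩
      rwa [h', Subgroup.mem_bot] at h3
    · exact inf_eq_left.mp h'

/-- A normal subgroup nilpotent modulo a normal subgroup of `Φ(G)` is nilpotent. -/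
theorem isNilpotent_of_le_frattini {A B : Subgroup G} [A.Normal] [B.Normal] (hBA : B ≤ A)
    (hB : B ≤ frattini G) (h : Group.IsNilpotent (↥A ⧸ B.subgroupOf A)) :
    Group.IsNilpotent A := by
  refine (Group.isNilpotent_of_finite_tfae.out 0 3).mpr fun p hpf P => ?_
  haveI := hpf
  set q := QuotientGroup.mk' (B.subgroupOf A) with hq
  set P' : Sylow p (A ⧸ B.subgroupOf A) := P.mapSurjective (QuotientGroup.mk'_surjective _)
  have hP'c : (P' : Subgroup (A ⧸ B.subgroupOf A)).Characteristic :=
    P'.characteristic_of_normal inferInstance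
  -- the preimage `R` of `P'` in `G` is `P B`, normal in `G`
  set R : Subgroup G := (P : Subgroup A).map A.subtype ⊔ B with hRdef
  have hRA : R ≤ A := sup_le (Subgroup.map_subtype_le _) hBA
  have hRsub : R.subgroupOf A = ((P' : Subgroup (A ⧸ B.subgroupOf A))).comap q := by
    rw [Sylow.coe_mapSurjective, Subgroup.comap_map_eq, hq, QuotientGroup.ker_mk', hRdef,
      Subgroup.subgroupOf_sup (Subgroup.map_subtype_le _) hBA]
    congr 1
    exact Subgroup.comap_map_eq_self_of_injective A.subtype_injective _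
  have hRn : R.Normal := by
    refine ⟨fun x hx g => ?_⟩
    have hxA : x ∈ A := hRA hx
    have hgA : g * x * g⁻¹ ∈ A := Subgroup.Normal.conj_mem inferInstance x hxA g
    let φ : A ≃* A := MulAut.conjNormal g
    have hφ : B.subgroupOf A = (B.subgroupOf A).map φ.toMonoidHom := by
      ext z
      rw [Subgroup.mem_map_equiv]
      simp only [Subgroup.mem_subgroupOf]
      change _ ↔ ((MulAut.conjNormal g).symm z : G) ∈ B
      rw [MulAut.conjNormal_symm_apply]
      constructor
      · intro hz
        simpa using (inferInstance : B.Normal).conj_mem _ hz g⁻¹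
      · intro hz
        have := (inferInstance : B.Normal).conj_mem _ hz g
        simpa [mul_assoc] using this
    let ψ : (A ⧸ B.subgroupOf A) ≃* (A ⧸ B.subgroupOf A) :=
      QuotientGroup.congr _ _ φ hφ.symm
    have h1 : q ⟨x, hxA⟩ ∈ (P' : Subgroup (A ⧸ B.subgroupOf A)) := by
      rw [← Subgroup.mem_comap, ← hRsub]; exact hx
    have h2 : ψ (q ⟨x, hxA⟩) ∈ (P' : Subgroup (A ⧸ B.subgroupOf A)) :=
      (Subgroup.characteristic_iff_le_comap.mp hP'c ψ) h1
    have h3 : ψ (q ⟨x, hxA⟩) = q ⟨g * x * g⁻¹, hgA⟩ := by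
      change q (φ ⟨x, hxA⟩) = _
      congr 1
    rw [h3, ← Subgroup.mem_comap, ← hRsub] at h2
    exact h2
  have hnot : ¬ p ∣ (((P : Subgroup A).map A.subtype).subgroupOf R).index := by
    intro h'
    have h3 := Subgroup.relIndex_mul_relIndex ((P : Subgroup A).map A.subtype) R A le_sup_left hRA
    have h4 : ((P : Subgroup A).map A.subtype).relIndex A = (P : Subgroup A).index := by
      rw [Subgroup.relIndex, Subgroup.subgroupOf,
        Subgroup.comap_map_eq_self_of_injective A.subtype_injective]
    exact P.not_dvd_index (h4 ▸ h3 ▸ dvd_mul_of_dvd_left h' _)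
  let PR : Sylow p R := (P.isPGroup'.map A.subtype |>.comap_of_injective R.subtype
    R.subtype_injective : IsPGroup p (((P : Subgroup A).map A.subtype).subgroupOf R)).toSylow hnot
  have hcoe : (PR : Subgroup R).map R.subtype = (P : Subgroup A).map A.subtype :=
    Subgroup.map_subgroupOf_eq_of_le le_sup_left
  have hFr := Sylow.normalizer_sup_eq_top PR
  rw [hcoe] at hFr
  have h5 : Subgroup.normalizer (((P : Subgroup A).map A.subtype : Subgroup G) : Set G) ⊔
      frattini G = ⊤ :=
    top_le_iff.mp (hFr.ge.trans (sup_le le_sup_left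
      (sup_le (le_trans Subgroup.le_normalizer le_sup_left) (hB.trans le_sup_right))))
  exact (Subgroup.normalizer_eq_top_iff.mp (Solvable.eq_top_of_sup_frattini h5)).of_map_subtype

/-- An automorphism of coprime order fixing `F(G)` pointwise is trivial, for solvable `G`. -/
theorem eq_refl_of_coprime [Group.IsSolvable G] (σ : MulAut G)
    (hσ : ∀ x ∈ Cfsg.fittingSubgroup G, σ x = x) (hcop : (orderOf σ).Coprime (Nat.card G)) :
    ∀ g, σ g = g := by
  set F := Cfsg.fittingSubgroup G with hF
  have hFn : F.Normal := Solvable.fittingSubgroup_normal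
  set φ : Subgroup.zpowers σ →* MulAut G := (Subgroup.zpowers σ).subtype with hφ
  have hfix1 : ∀ a : Subgroup.zpowers σ, ∀ x ∈ F, φ a x = x := by
    rintro ⟨a, ha⟩ x hx
    obtain ⟨k, rfl⟩ := Subgroup.mem_zpowers_iff.mp ha
    let S : Subgroup (MulAut G) :=
      { carrier := {τ | τ x = x}
        one_mem' := rfl
        mul_mem' := fun {a b} ha hb => by
          change a (b x) = x
          rw [show b x = x from hb]; exact ha
        inv_mem' := fun {a} ha => by
          change a⁻¹ x = x
          conv_lhs => rw [← (ha : a x = x)]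
          exact a.symm_apply_apply x }
    exact S.zpow_mem (hσ x hx : σ ∈ S) k
  have hquot : ∀ (a : Subgroup.zpowers σ) (g : G), g⁻¹ * φ a g ∈ F := by
    intro a g
    refine Solvable.centralizer_fittingSubgroup_le ?_
    rw [Subgroup.mem_centralizer_iff]
    intro f hf
    have h1 : φ a (g * f * g⁻¹) = g * f * g⁻¹ := hfix1 a _ (hFn.conj_mem f hf g)
    rw [map_mul, map_mul, map_inv, hfix1 a f hf] at h1
    calc f * (g⁻¹ * φ a g) = g⁻¹ * (g * f * g⁻¹) * φ a g := by group
      _ = g⁻¹ * (φ a g * f * (φ a g)⁻¹) * φ a g := by rw [h1]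
      _ = g⁻¹ * φ a g * f := by group
  have hc : (Nat.card (Subgroup.zpowers σ)).Coprime (Nat.card G) := by
    rwa [Nat.card_zpowers]
  intro g
  have := Coprime.eq_of_fixes_series φ hc hfix1 hquot ⟨σ, Subgroup.mem_zpowers σ⟩ g
  exact this

end CfsgLib.FrattiniTheory
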